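import Groth.Agent.AlgSpBasic.SepLQFScheme
import Groth.Agent.AlgSpBasic.SourceDescent
import Groth.Agent.EtaleBase.PointLift
import Groth.Agent.EtaleBase.TopInvariance
import Mathlib.CategoryTheory.Limits.FunctorCategory.Basic

/-!
# Etale schemes lift along universal homeomorphisms

An etale scheme `W` over `X` which is covered by the base change of an etale scheme over `Y` lifts:
the fppf sheaf `T ↦ Hom_X(T ×_Y X, W)` is an algebraic space, separated and locally quasi-finite over `Y`,
hence a scheme.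
-/

set_option autoImplicit false
set_option backward.isDefEq.respectTransparency false

universe u

open CategoryTheory CategoryTheory.Limits AlgebraicGeometry Opposite AlgSp Groth.AlgSpBasic

namespace Groth.EtaleLift

/-- Pullback squares of sheaves are detected on sections. -/
theorem isPullback_of_forall_app {S : Scheme.{u}} {A B C D : Sp S} {t : A ⟶ B} {l : A ⟶ C} {r : B ⟶ D}
    {b : C ⟶ D} (h : ∀ T : Over S, IsPullback (t.hom.app (op T)) (l.hom.app (op T)) (r.hom.app (op T))
      (b.hom.app (op T))) :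
    IsPullback t l r b := by
  have w : t.hom ≫ r.hom = l.hom ≫ b.hom := NatTrans.ext (funext fun T => (h T.unop).w)
  refine IsPullback.of_map (sheafToPresheaf (J S) _) (ObjectProperty.hom_ext _ w) ⟨⟨w⟩, ⟨?_⟩⟩
  exact evaluationJointlyReflectsLimits _ fun T =>
    (isLimitMapConePullbackConeEquiv _ _).symm (h T.unop).isLimit

variable {X Y : Scheme.{u}} (f : X ⟶ Y) {W : Scheme.{u}} (g : W ⟶ X)

/-- The sheaf `T ↦ Hom_X(T ×_Y X, W)`. -/
noncomputable def resSheaf : Sp Y :=
  ((Over.pullback f).sheafPushforwardContinuous (Type (u + 1)) (J Y) (J X)).obj ((yon X).obj (Over.mk g))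

variable {f g}

/-- The map to `resSheaf` given by a map out of a base change. -/
noncomputable def toRes {T : Over Y} (β : (Over.pullback f).obj T ⟶ Over.mk g) :
    (yon Y).obj T ⟶ resSheaf f g :=
  (J Y).uliftYonedaEquiv.symm ⟨β⟩

theorem toRes_app {T T' : Over Y} (β : (Over.pullback f).obj T ⟶ Over.mk g) (k : T' ⟶ T) :
    (toRes β).hom.app (op T') ⟨k⟩ = ⟨(Over.pullback f).map k ≫ β⟩ := rfl

theorem toRes_surjective {T : Over Y} (b : (yon Y).obj T ⟶ resSheaf f g) :
    ∃ β, b = toRes β :=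
  ⟨((J Y).uliftYonedaEquiv b).down, ((J Y).uliftYonedaEquiv.symm_apply_apply b).symm⟩

section Topology

variable [IsIntegralHom f] [UniversallyInjective f] [Surjective f]

/-- The projection from a base change to its source is a homeomorphism. -/
theorem isHomeomorph_fst (T : Over Y) : IsHomeomorph (pullback.fst T.hom f) := by
  have : UniversallyInjective (pullback.fst T.hom f) := MorphismProperty.pullback_fst _ _ ‹_›
  exact isHomeomorph_iff_continuous_isClosedMap_bijective.2 ⟨(pullback.fst T.hom f).continuous,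
    (pullback.fst T.hom f).isClosedMap, (pullback.fst T.hom f).injective, (pullback.fst T.hom f).surjective⟩

omit [IsIntegralHom f] [UniversallyInjective f] [Surjective f] in
theorem pullback_map_fst {T T' : Over Y} (k : T' ⟶ T) :
    ((Over.pullback f).map k).left ≫ pullback.fst T.hom f = pullback.fst T'.hom f ≫ k.left := by
  simp [Over.pullback]

/-- The locus in `T` where two maps out of its base change agree. -/
theorem exists_agree_opens [Etale g] [IsSeparated g] {T : Over Y}
    (β β' : (Over.pullback f).obj T ⟶ Over.mk g) :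
    ∃ O : T.left.Opens, IsClosed (O : Set T.left) ∧ (∀ {T' : Over Y} (k : T' ⟶ T),
      (Over.pullback f).map k ≫ β = (Over.pullback f).map k ≫ β' ↔ Set.range k.left ⊆ O) ∧
      ∀ {D : Scheme.{u}} (d : D ⟶ pullback T.hom f), d ≫ β.left = d ≫ β'.left →
        ∀ y, pullback.fst T.hom f (d y) ∈ O := by
  have w : β.left ≫ g = β'.left ≫ g := (Over.w β).trans (Over.w β').symm
  let q := pullback.fst (pullback.lift β.left β'.left w) (pullback.diagonal g)
  have hq : IsOpenImmersion q := inferInstanceAs (IsOpenImmersion (pullback.fst _ _))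
  have hq' : IsClosedImmersion q := inferInstanceAs (IsClosedImmersion (pullback.fst _ _))
  let fT := pullback.fst T.hom f
  refine ⟨⟨fT '' Set.range q, (isHomeomorph_fst (f := f) T).isOpenMap _ q.isOpenEmbedding.isOpen_range⟩,
    (isHomeomorph_fst (f := f) T).isClosedMap _ q.isClosedEmbedding.isClosed_range, fun {T'} k => ?_,
    fun {D} d h y => ⟨d y, ⟨pullback.lift d (d ≫ β.left) (pullback.hom_ext (by simp) (by simp [h])) y, ?_⟩, rfl⟩⟩
  swap
  · rw [← Scheme.Hom.comp_apply]
    exact congrArg (fun m : D ⟶ pullback T.hom f => m y) (pullback.lift_fst _ _ _)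
  let Gk : pullback T'.hom f ⟶ pullback T.hom f := ((Over.pullback f).map k).left
  have hk : Gk ≫ fT = pullback.fst T'.hom f ≫ k.left := pullback_map_fst k
  constructor
  · intro h
    have h' : Gk ≫ β.left = Gk ≫ β'.left := congrArg (fun m => m.left) h
    let l := pullback.lift (f := pullback.lift β.left β'.left w) (g := pullback.diagonal g) Gk (Gk ≫ β.left)
      (pullback.hom_ext (by simp [pullback.lift_fst]) (by simp [h', pullback.lift_snd]))
    rintro _ ⟨y, rfl⟩
    obtain ⟨y', rfl⟩ := (isHomeomorph_fst (f := f) T').surjective y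
    refine ⟨Gk y', ⟨l y', ?_⟩, ?_⟩
    · rw [← Scheme.Hom.comp_apply]
      exact congrArg (fun m : pullback T'.hom f ⟶ pullback T.hom f => m y') (pullback.lift_fst _ _ _)
    · rw [← Scheme.Hom.comp_apply, hk]
      rfl
  · intro h
    have hr : Set.range Gk ⊆ Set.range q := by
      rintro _ ⟨y', rfl⟩
      obtain ⟨z, hz, hzy⟩ := h ⟨pullback.fst T'.hom f y', rfl⟩
      have : fT z = fT (Gk y') := by
        rw [hzy, ← Scheme.Hom.comp_apply, ← Scheme.Hom.comp_apply, hk]
      exact (isHomeomorph_fst (f := f) T).injective this ▸ hz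
    refine Over.OverMorphism.ext ?_
    show Gk ≫ β.left = Gk ≫ β'.left
    rw [← IsOpenImmersion.lift_fac q Gk hr, Category.assoc, Category.assoc]
    exact congrArg (_ ≫ ·) (Groth.EtaleBase.agree_fst_comp g β.left β'.left w)

end Topology

section Lift

variable [IsIntegralHom f] [UniversallyInjective f] [Surjective f] [Etale g] [IsSeparated g]

/-- The fibre product over `resSheaf` of two maps from schemes is an open and closed piece of their product. -/
theorem isPullback_toRes {A B P : Over Y} (p₁ : P ⟶ A) (p₂ : P ⟶ B) (hP : IsPullback p₁.left p₂.left A.hom B.hom)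
    (α : (Over.pullback f).obj A ⟶ Over.mk g) (β : (Over.pullback f).obj B ⟶ Over.mk g) :
    ∃ (R : Over Y) (j : R ⟶ P), IsOpenImmersion j.left ∧ IsClosedImmersion j.left ∧
      IsPullback ((yon Y).map (j ≫ p₁)) ((yon Y).map (j ≫ p₂)) (toRes α) (toRes β) ∧
      ∀ {D : Scheme.{u}} (d : D ⟶ pullback P.hom f),
        d ≫ ((Over.pullback f).map p₁ ≫ α).left = d ≫ ((Over.pullback f).map p₂ ≫ β).left →
          ∀ y, pullback.fst P.hom f (d y) ∈ Set.range j.left := by
  obtain ⟨O, hOc, hO, hOd⟩ :=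
    exists_agree_opens ((Over.pullback f).map p₁ ≫ α) ((Over.pullback f).map p₂ ≫ β)
  let R : Over Y := Over.mk (O.ι ≫ P.hom)
  let j : R ⟶ P := Over.homMk O.ι rfl
  have hjr : Set.range j.left = (O : Set P.left) := Scheme.Opens.range_ι O
  have : IsOpenImmersion j.left := inferInstanceAs (IsOpenImmersion O.ι)
  have hcl : IsClosedImmersion j.left :=
    IsClosedImmersion.of_isPreimmersion j.left (by rw [hjr]; exact hOc)
  refine ⟨R, j, inferInstanceAs (IsOpenImmersion O.ι), hcl, isPullback_of_forall_app fun T => ?_,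
    fun d h y => hjr.symm ▸ hOd d h y⟩
  rw [Types.isPullback_iff]
  have key : ∀ m : T ⟶ P, (Over.pullback f).map m ≫ (Over.pullback f).map p₁ ≫ α =
      (Over.pullback f).map m ≫ (Over.pullback f).map p₂ ≫ β ↔ Set.range m.left ⊆ (O : Set P.left) :=
    fun m => hO m
  refine ⟨?_, ?_, ?_⟩
  · ext ⟨m⟩
    show (⟨(Over.pullback f).map (m ≫ j ≫ p₁) ≫ α⟩ : ULift _) = ⟨(Over.pullback f).map (m ≫ j ≫ p₂) ≫ β⟩
    refine congrArg ULift.up ?_
    have := (key (m ≫ j)).2 ((Set.range_comp_subset_range m.left j.left).trans hjr.subset)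
    simpa [Functor.map_comp] using this
  · rintro ⟨m⟩ ⟨m'⟩ ⟨h₁, h₂⟩
    refine congrArg ULift.up ?_
    have h₁'' : m ≫ j ≫ p₁ = m' ≫ j ≫ p₁ := congrArg ULift.down h₁
    have h₂'' : m ≫ j ≫ p₂ = m' ≫ j ≫ p₂ := congrArg ULift.down h₂
    have h₁' : (m ≫ j) ≫ p₁ = (m' ≫ j) ≫ p₁ := by rw [Category.assoc, Category.assoc, h₁'']
    have h₂' : (m ≫ j) ≫ p₂ = (m' ≫ j) ≫ p₂ := by rw [Category.assoc, Category.assoc, h₂'']
    have : (m ≫ j).left = (m' ≫ j).left :=
      hP.hom_ext (congrArg (fun k => k.left) h₁') (congrArg (fun k => k.left) h₂')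
    exact Over.OverMorphism.ext ((cancel_mono O.ι).1 this)
  · rintro ⟨a⟩ ⟨b⟩ hab
    have hab' : (Over.pullback f).map a ≫ α = (Over.pullback f).map b ≫ β := congrArg ULift.down hab
    let l := hP.lift a.left b.left ((Over.w a).trans (Over.w b).symm)
    let l' : T ⟶ P := Over.homMk l (by
      rw [← Over.w p₁]
      exact (hP.lift_fst_assoc _ _ _ _).trans (Over.w a))
    have e₁ : l' ≫ p₁ = a := Over.OverMorphism.ext (hP.lift_fst _ _ _)
    have e₂ : l' ≫ p₂ = b := Over.OverMorphism.ext (hP.lift_snd _ _ _)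
    have hr : Set.range l ⊆ Set.range O.ι := by
      rw [Scheme.Opens.range_ι]
      refine (key l').1 ?_
      rw [← Category.assoc, ← Category.assoc, ← Functor.map_comp, ← Functor.map_comp, e₁, e₂]
      exact hab'
    let m : T ⟶ R := Over.homMk (IsOpenImmersion.lift O.ι l hr) (by
      show _ ≫ O.ι ≫ P.hom = T.hom
      rw [IsOpenImmersion.lift_fac_assoc]
      exact Over.w l')
    have hm : m ≫ j = l' := Over.OverMorphism.ext (IsOpenImmersion.lift_fac _ _ _)
    exact ⟨⟨m⟩, congrArg ULift.up (((Category.assoc _ _ _).symm.trans (congrArg (· ≫ p₁) hm)).trans e₁),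
      congrArg ULift.up (((Category.assoc _ _ _).symm.trans (congrArg (· ≫ p₂) hm)).trans e₂)⟩


/-- An etale separated `X`-scheme covered by a base change lifts to an etale `Y`-scheme. -/
theorem exists_lift_of_cover {E : Scheme.{u}} (e : E ⟶ Y) [Etale e] (h : pullback e f ⟶ W)
    (hh : h ≫ g = pullback.snd e f) [Surjective h] :
    ∃ (L : Scheme.{u}) (l : L ⟶ Y) (m : W ⟶ L), Etale l ∧ IsPullback m g l f := by
  let G := Over.pullback f
  let T₀ : Over Y := Over.mk (𝟙 Y)
  let A : Over Y := Over.mk e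
  let hX : G.obj A ⟶ Over.mk g := Over.homMk h hh
  let π := toRes hX
  have : Etale (hX.left ≫ g) := by
    show Etale (h ≫ g)
    rw [hh]
    infer_instance
  -- the chart is representable, etale and surjective
  have hπ : RepWith @Etale π ∧ RepWith @Surjective π := by
    rw [← repWith_inf_iff]
    refine repWith_of_exists fun B b => ?_
    obtain ⟨β, rfl⟩ := toRes_surjective b
    let P : Over Y := Over.mk (pullback.fst A.hom B.hom ≫ A.hom)
    let p₁ : P ⟶ A := Over.homMk (pullback.fst A.hom B.hom) rfl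
    let p₂ : P ⟶ B := Over.homMk (pullback.snd A.hom B.hom) pullback.condition.symm
    obtain ⟨R, j, hjo, hjc, sq, hd⟩ := isPullback_toRes p₁ p₂ (IsPullback.of_hasPullback A.hom B.hom) hX β
    refine ⟨R, (yon Y).map (j ≫ p₁), j ≫ p₂, sq, ?_, ⟨fun t => ?_⟩⟩
    · show Etale (j.left ≫ pullback.snd A.hom B.hom)
      have : Etale A.hom := ‹Etale e›
      infer_instance
    · obtain ⟨z, hz⟩ := (isHomeomorph_fst (f := f) B).surjective t
      obtain ⟨y, hy⟩ := h.surjective (β.left z)
      obtain ⟨c, hc₁, hc₂⟩ := Scheme.Pullback.exists_preimage_pullback (f := h) (g := β.left) y z hy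
      let D := pullback h β.left
      let π₁ : D ⟶ pullback e f := pullback.fst h β.left
      let π₂ : D ⟶ pullback B.hom f := pullback.snd h β.left
      have hc : π₁ ≫ h = π₂ ≫ β.left := pullback.condition
      have hB : β.left ≫ g = pullback.snd B.hom f := Over.w β
      have hx : π₁ ≫ pullback.snd e f = π₂ ≫ pullback.snd B.hom f := by
        rw [← hh, reassoc_of% hc, hB]
      let d₀ : D ⟶ P.left := pullback.lift (π₁ ≫ pullback.fst e f) (π₂ ≫ pullback.fst B.hom f) (by
        show (π₁ ≫ pullback.fst e f) ≫ e = (π₂ ≫ pullback.fst B.hom f) ≫ B.hom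
        rw [Category.assoc, Category.assoc, pullback.condition, pullback.condition, reassoc_of% hx])
      let d : D ⟶ pullback P.hom f := pullback.lift d₀ (π₁ ≫ pullback.snd e f) (by
        show d₀ ≫ pullback.fst A.hom B.hom ≫ A.hom = _
        rw [pullback.lift_fst_assoc, Category.assoc]
        show π₁ ≫ pullback.fst e f ≫ e = _
        rw [pullback.condition, Category.assoc])
      have e₁ : d ≫ (G.map p₁).left = π₁ := by
        apply pullback.hom_ext <;> simp [G, d, d₀, p₁, A]
      have e₂ : d ≫ (G.map p₂).left = π₂ := by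
        apply pullback.hom_ext <;> simp [G, d, d₀, p₂, hx]
      obtain ⟨r, hr⟩ := hd d (by
        show d ≫ (G.map p₁).left ≫ h = d ≫ (G.map p₂).left ≫ β.left
        rw [reassoc_of% e₁, reassoc_of% e₂, hc]) c
      refine ⟨r, ?_⟩
      show pullback.snd A.hom B.hom (j.left r) = t
      rw [hr]
      have : d ≫ pullback.fst P.hom f ≫ pullback.snd A.hom B.hom = π₂ ≫ pullback.fst B.hom f := by
        simp [d, d₀]
      refine (congrArg (fun m : D ⟶ B.left => m c) this).trans ?_
      show pullback.fst B.hom f (π₂ c) = t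
      rw [show π₂ c = z from hc₂, hz]
  have hF : IsAlgSpace (resSheaf f g) := isAlgSpace_of_chart hπ.1 hπ.2
  -- the structure map
  have hT₀ : IsTerminal ((yon Y).obj T₀) := IsTerminal.isTerminalObj (yon Y) T₀ Over.mkIdTerminal
  let f₀ := hT₀.from (resSheaf f g)
  have hqf : LocP (@LocallyQuasiFinite ⊓ @LocallyOfFiniteType) f₀ :=
    locP_of_chart hF.diag (IsAlgSpace.yon_obj T₀).diag hπ.1 hπ.2 (repWith_isIso (𝟙 _))
      (h := (Over.homMk e (Category.comp_id e) : A ⟶ T₀)) (hT₀.hom_ext _ _)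
      ⟨(inferInstance : LocallyQuasiFinite e), (inferInstance : LocallyOfFiniteType e)⟩
  have hsep : IsSeparatedMor f₀ := by
    refine repWith_of_exists fun B b => ?_
    obtain ⟨β₁, h₁⟩ := toRes_surjective (b ≫ pullback.fst f₀ f₀)
    obtain ⟨β₂, h₂⟩ := toRes_surjective (b ≫ pullback.snd f₀ f₀)
    obtain ⟨O, hOc, hO, -⟩ := exists_agree_opens β₁ β₂
    let R : Over Y := Over.mk (O.ι ≫ B.hom)
    let j : R ⟶ B := Over.homMk O.ι rfl
    have hjr : Set.range j.left = (O : Set B.left) := Scheme.Opens.range_ι O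
    have : IsOpenImmersion j.left := inferInstanceAs (IsOpenImmersion O.ι)
    refine ⟨R, (yon Y).map j ≫ b ≫ pullback.fst f₀ f₀, j, isPullback_of_forall_app fun T => ?_,
      IsClosedImmersion.of_isPreimmersion j.left (by rw [hjr]; exact hOc)⟩
    rw [Types.isPullback_iff]
    have b₁ : ∀ k : T ⟶ B, (pullback.fst f₀ f₀).hom.app (op T) (b.hom.app (op T) ⟨k⟩) = ⟨G.map k ≫ β₁⟩ :=
      fun k => (congrArg (fun m : (yon Y).obj B ⟶ resSheaf f g => m.hom.app (op T) ⟨k⟩) h₁).trans (toRes_app β₁ k)
    have b₂ : ∀ k : T ⟶ B, (pullback.snd f₀ f₀).hom.app (op T) (b.hom.app (op T) ⟨k⟩) = ⟨G.map k ≫ β₂⟩ :=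
      fun k => (congrArg (fun m : (yon Y).obj B ⟶ resSheaf f g => m.hom.app (op T) ⟨k⟩) h₂).trans (toRes_app β₂ k)
    have d₁ : ∀ a, (pullback.fst f₀ f₀).hom.app (op T) ((pullback.diagonal f₀).hom.app (op T) a) = a := fun a =>
      congrArg (fun m : resSheaf f g ⟶ resSheaf f g => m.hom.app (op T) a) (pullback.diagonal_fst f₀)
    have d₂ : ∀ a, (pullback.snd f₀ f₀).hom.app (op T) ((pullback.diagonal f₀).hom.app (op T) a) = a := fun a =>
      congrArg (fun m : resSheaf f g ⟶ resSheaf f g => m.hom.app (op T) a) (pullback.diagonal_snd f₀)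
    have ext' : ∀ x y : (pullback f₀ f₀).obj.obj (op T),
        (pullback.fst f₀ f₀).hom.app (op T) x = (pullback.fst f₀ f₀).hom.app (op T) y →
        (pullback.snd f₀ f₀).hom.app (op T) x = (pullback.snd f₀ f₀).hom.app (op T) y → x = y := fun x y =>
      fun e e' => Types.ext_of_isPullback
        (((IsPullback.of_hasPullback f₀ f₀).map (sheafToPresheaf _ _)).map ((evaluation _ _).obj (op T))) e e'
    refine ⟨?_, ?_, ?_⟩
    · ext ⟨m⟩
      show (pullback.diagonal f₀).hom.app (op T) ((pullback.fst f₀ f₀).hom.app (op T)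
        (b.hom.app (op T) ⟨m ≫ j⟩)) = b.hom.app (op T) ⟨m ≫ j⟩
      refine ext' _ _ (d₁ _) ((d₂ _).trans ?_)
      rw [b₁, b₂]
      exact congrArg ULift.up ((hO (m ≫ j)).2 ((Set.range_comp_subset_range m.left j.left).trans hjr.subset))
    · rintro ⟨m⟩ ⟨m'⟩ ⟨-, h₂⟩
      refine congrArg ULift.up ?_
      have h₂' : m ≫ j = m' ≫ j := congrArg ULift.down h₂
      exact Over.OverMorphism.ext ((cancel_mono O.ι).1 (congrArg (fun k => k.left) h₂'))
    · rintro a ⟨k⟩ hab
      have ha₁ := (d₁ a).symm.trans ((congrArg _ hab).trans (b₁ k))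
      have ha₂ := (d₂ a).symm.trans ((congrArg _ hab).trans (b₂ k))
      have hr : Set.range k.left ⊆ Set.range O.ι := by
        rw [Scheme.Opens.range_ι]
        exact (hO k).1 (congrArg ULift.down (ha₁.symm.trans ha₂))
      let m : T ⟶ R := Over.homMk (IsOpenImmersion.lift O.ι k.left hr) (by
        show _ ≫ O.ι ≫ B.hom = T.hom
        rw [IsOpenImmersion.lift_fac_assoc]
        exact Over.w k)
      have hm : m ≫ j = k := Over.OverMorphism.ext (IsOpenImmersion.lift_fac _ _ _)
      refine ⟨⟨m⟩, ?_, congrArg ULift.up hm⟩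
      show (pullback.fst f₀ f₀).hom.app (op T) (b.hom.app (op T) ⟨m ≫ j⟩) = a
      rw [hm, b₁]
      exact ha₁.symm
  obtain ⟨L, ⟨ψ⟩⟩ := exists_iso_of_separated_lqf hF hqf hsep
  obtain ⟨θ, hθ⟩ := toRes_surjective ψ.hom
  obtain ⟨k, hk⟩ := (yon Y).map_surjective (π ≫ ψ.inv)
  have hπk : (yon Y).map k ≫ toRes θ = π := by rw [← hθ, hk, Category.assoc, ψ.inv_hom_id, Category.comp_id]
  have hkθ : G.map k ≫ θ = hX := by
    have e' : (⟨G.map (𝟙 A ≫ k) ≫ θ⟩ : ULift.{u + 1} (G.obj A ⟶ Over.mk g)) = ⟨G.map (𝟙 A) ≫ hX⟩ :=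
      congrArg (fun m : (yon Y).obj A ⟶ resSheaf f g => m.hom.app (op A) ⟨𝟙 A⟩) hπk
    simpa using congrArg ULift.down e'
  have hk' : RepWith @Etale ((yon Y).map k) ∧ RepWith @Surjective ((yon Y).map k) := by
    rw [hk]
    exact ⟨repWith_comp hπ.1 (repWith_isIso _), repWith_comp hπ.2 (repWith_isIso _)⟩
  have : Etale k.left := (repWith_yon_map_iff _ k).1 hk'.1
  have : Surjective k.left := (repWith_yon_map_iff _ k).1 hk'.2
  have : Etale (k.left ≫ L.hom) := by rw [Over.w k]; exact ‹Etale e›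
  have hL : Etale L.hom := SourceDescent.etale_of_comp_surjective k.left L.hom
  have hθg : θ.left ≫ g = pullback.snd L.hom f := Over.w θ
  have : Etale (θ.left ≫ g) := by rw [hθg]; infer_instance
  have : Etale θ.left := Etale.of_comp θ.left g
  have hkθ' : (G.map k).left ≫ θ.left = h := congrArg (fun m => m.left) hkθ
  have : Surjective θ.left := @Surjective.of_comp _ _ _ (G.map k).left θ.left (by rw [hkθ']; infer_instance)
  have : Surjective (G.map k).left := by
    refine ⟨fun z => ?_⟩
    obtain ⟨a, ha⟩ := k.left.surjective (pullback.fst L.hom f z)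
    obtain ⟨z', rfl⟩ := (isHomeomorph_fst (f := f) A).surjective a
    refine ⟨z', (isHomeomorph_fst (f := f) L).injective ?_⟩
    rw [← ha]
    exact congrArg (fun m : pullback A.hom f ⟶ L.left => m z') (pullback_map_fst k)
  have hmono : UniversallyInjective θ.left := by
    rw [UniversallyInjective.iff_diagonal]
    let P : Over Y := Over.mk (pullback.fst A.hom A.hom ≫ A.hom)
    let p₁ : P ⟶ A := Over.homMk (pullback.fst A.hom A.hom) rfl
    let p₂ : P ⟶ A := Over.homMk (pullback.snd A.hom A.hom) pullback.condition.symm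
    obtain ⟨R, j, hjo, hjc, sq, hd⟩ := isPullback_toRes p₁ p₂ (IsPullback.of_hasPullback A.hom A.hom) hX hX
    have hsame : j ≫ p₁ ≫ k = j ≫ p₂ ≫ k := by
      refine (yon Y).map_injective ?_
      have := congrArg (· ≫ ψ.inv) sq.w
      change ((yon Y).map (j ≫ p₁) ≫ π) ≫ ψ.inv = ((yon Y).map (j ≫ p₂) ≫ π) ≫ ψ.inv at this
      simpa only [Functor.map_comp, Category.assoc, ← hk] using this
    let D := pullback h h
    let π₁ : D ⟶ pullback e f := pullback.fst h h
    let π₂ : D ⟶ pullback e f := pullback.snd h h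
    have hc : π₁ ≫ h = π₂ ≫ h := pullback.condition
    have hx : π₁ ≫ pullback.snd e f = π₂ ≫ pullback.snd e f := by rw [← hh, reassoc_of% hc]
    let d₀ : D ⟶ P.left := pullback.lift (π₁ ≫ pullback.fst e f) (π₂ ≫ pullback.fst e f) (by
      show (π₁ ≫ pullback.fst e f) ≫ e = (π₂ ≫ pullback.fst e f) ≫ e
      rw [Category.assoc, Category.assoc, pullback.condition, reassoc_of% hx])
    let d : D ⟶ pullback P.hom f := pullback.lift d₀ (π₁ ≫ pullback.snd e f) (by
      show d₀ ≫ pullback.fst A.hom A.hom ≫ A.hom = _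
      rw [pullback.lift_fst_assoc, Category.assoc]
      show π₁ ≫ pullback.fst e f ≫ e = _
      rw [pullback.condition, Category.assoc])
    have e₁ : d ≫ (G.map p₁).left = π₁ := by apply pullback.hom_ext <;> simp [G, d, d₀, p₁, A]
    have e₂ : d ≫ (G.map p₂).left = π₂ := by apply pullback.hom_ext <;> simp [G, d, d₀, p₂, A, hx]
    have hr : Set.range (d ≫ pullback.fst P.hom f) ⊆ Set.range j.left := by
      rintro _ ⟨y, rfl⟩
      exact hd d (by
        show d ≫ (G.map p₁).left ≫ h = d ≫ (G.map p₂).left ≫ h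
        rw [reassoc_of% e₁, reassoc_of% e₂, hc]) y
    let r : D ⟶ pullback R.hom f := pullback.lift (IsOpenImmersion.lift j.left _ hr) (d ≫ pullback.snd P.hom f)
      (by
        rw [← Over.w j, IsOpenImmersion.lift_fac_assoc, Category.assoc, Category.assoc, pullback.condition])
    have hrj : r ≫ (G.map j).left = d := by
      apply pullback.hom_ext <;> simp [G, r]
    have eq : π₁ ≫ (G.map k).left = π₂ ≫ (G.map k).left := by
      rw [← e₁, ← e₂, ← hrj]
      have := congrArg (fun m => r ≫ (G.map m).left) hsame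
      simpa [Functor.map_comp] using this
    let s : D ⟶ pullback θ.left θ.left := pullback.map _ _ _ _ (G.map k).left (G.map k).left (𝟙 _)
      (by rw [Category.comp_id, hkθ']) (by rw [Category.comp_id, hkθ'])
    have hs : Surjective s := MorphismProperty.pullbackMap (P := @Surjective) inferInstance inferInstance hkθ'.symm hkθ'.symm
    have : (π₁ ≫ (G.map k).left) ≫ pullback.diagonal θ.left = s := by
      apply pullback.hom_ext
      · simp [s, π₁]
      · simp [s, eq, π₂]
    exact @Surjective.of_comp _ _ _ (π₁ ≫ (G.map k).left) _ (this ▸ hs)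
  have : Surjective (pullback.diagonal θ.left) := (UniversallyInjective.iff_diagonal θ.left).1 hmono
  have : IsIso (pullback.diagonal θ.left) := (isIso_iff_isOpenImmersion_and_surjective _).2 ⟨inferInstance, this⟩
  have : Mono θ.left := (pullback.isIso_diagonal_iff θ.left).1 this
  have : IsOpenImmersion θ.left := IsOpenImmersion.of_flat_of_mono θ.left
  have : IsIso θ.left := (isIso_iff_isOpenImmersion_and_surjective _).2 ⟨inferInstance, inferInstance⟩
  exact ⟨L.left, L.hom, inv θ.left ≫ pullback.fst L.hom f, hL,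
    IsPullback.of_iso_pullback ⟨by rw [Category.assoc, pullback.condition, IsIso.inv_comp_eq, reassoc_of% hθg]⟩
      (asIso (inv θ.left)) rfl (by rw [asIso_hom, IsIso.inv_comp_eq, hθg])⟩

end Lift

/-- Every point carries a geometric point. -/
theorem exists_geometric_point (Z : Scheme.{u}) (z : Z) :
    ∃ (Ω : Type u) (_ : Field Ω) (_ : IsAlgClosed Ω) (l : Spec (CommRingCat.of Ω) ⟶ Z), l default = z := by
  suffices ∀ (k : Type u) [Field k] (j : Spec (CommRingCat.of k) ⟶ Z),
      ∃ (Ω : Type u) (_ : Field Ω) (_ : IsAlgClosed Ω) (l : Spec (CommRingCat.of Ω) ⟶ Z), l default = j default by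
    obtain ⟨Ω, i₁, i₂, l, hl⟩ := this (Z.residueField z) (Z.fromSpecResidueField z)
    exact ⟨Ω, i₁, i₂, l, hl.trans (Scheme.fromSpecResidueField_apply _ _)⟩
  intro k _ j
  refine ⟨AlgebraicClosure k, inferInstance, inferInstance,
    Spec.map (CommRingCat.ofHom (algebraMap k (AlgebraicClosure k))) ≫ j, ?_⟩
  exact congrArg j.base (Subsingleton.elim _ _)

/-- Etale schemes lift Zariski locally along integral, universally injective, surjective morphisms. -/
theorem exists_local_lift [IsIntegralHom f] [UniversallyInjective f] [Surjective f] {U : Scheme.{u}}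
    (g : U ⟶ X) [Etale g] (u : U) :
    ∃ O : U.Opens, u ∈ O ∧ Nonempty (Groth.EtaleBase.TopInv.Lift f g O) := by
  obtain ⟨O₀, hO₀, hu, -⟩ := exists_isAffineOpen_mem_and_subset (X := U) (x := u) (U := ⊤) trivial
  have : IsAffine (O₀ : Scheme.{u}) := hO₀
  let g₀ : (O₀ : Scheme.{u}) ⟶ X := O₀.ι ≫ g
  have : IsSeparated g₀ := IsSeparated.of_comp g₀ (terminal.from X)
  let u₀ : (O₀ : Scheme.{u}) := ⟨u, hu⟩
  obtain ⟨Ω, _, _, l, hl⟩ := exists_geometric_point (O₀ : Scheme.{u}) u₀
  obtain ⟨E, e, he, h, t, ht, hh, hth⟩ := Groth.EtaleBase.exists_nbhd_of_point f g₀ (l ≫ g₀) l rfl (fun x hx => by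
    refine ⟨u₀, f.injective (Eq.trans ?_ hx.symm)⟩
    rw [← hl]
    rfl)
  have : Etale (h ≫ g₀) := by rw [hh]; infer_instance
  have : Etale h := Etale.of_comp h g₀
  let W₁ : (O₀ : Scheme.{u}).Opens := ⟨Set.range h, h.isOpenMap.isOpen_range⟩
  let W : U.Opens := O₀.ι ''ᵁ W₁
  have hW : (W : Set U) = O₀.ι '' Set.range h := rfl
  have hu₀ : u₀ ∈ Set.range h := by
    refine ⟨(pullback.lift t (l ≫ g₀) ht) default, ?_⟩
    rw [← Scheme.Hom.comp_apply]
    exact (congrArg (fun m : Spec (CommRingCat.of Ω) ⟶ (O₀ : Scheme.{u}) => m default) hth).trans hl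
  let g₁ : (W : Scheme.{u}) ⟶ X := W.ι ≫ g
  have hle : W ≤ O₀ := by
    rintro _ ⟨a, -, rfl⟩
    exact a.2
  have : IsSeparated g₁ := by
    rw [show g₁ = U.homOfLE hle ≫ g₀ by simp [g₁, g₀]]
    infer_instance
  have hr : Set.range (h ≫ O₀.ι) ⊆ Set.range W.ι := by
    rw [Scheme.Opens.range_ι, hW]
    rintro _ ⟨y, rfl⟩
    exact ⟨h y, ⟨y, rfl⟩, rfl⟩
  let h₁ := IsOpenImmersion.lift W.ι (h ≫ O₀.ι) hr
  have hh₁ : h₁ ≫ g₁ = pullback.snd e f := by
    rw [← hh]
    exact (IsOpenImmersion.lift_fac_assoc _ _ _ _).trans (Category.assoc _ _ _)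
  have : Surjective h₁ := by
    refine ⟨fun w => ?_⟩
    obtain ⟨z, ⟨y, rfl⟩, hw⟩ := hW.subset w.2
    refine ⟨y, W.ι.injective ?_⟩
    rw [← Scheme.Hom.comp_apply, IsOpenImmersion.lift_fac]
    exact hw
  obtain ⟨L, l', m, hl', hm⟩ := exists_lift_of_cover (g := g₁) e h₁ hh₁
  exact ⟨W, ⟨u₀, hu₀, rfl⟩, ⟨⟨L, l', m, hl', hm⟩⟩⟩

/-- Topological invariance of the small etale site. -/
theorem isEquivalence_bc_univHomeo (f : X ⟶ Y) [IsIntegralHom f] [UniversallyInjective f] [Surjective f] :
    (EtCoh.bc f).IsEquivalence :=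
  Groth.EtaleBase.TopInv.isEquivalence_bc f fun U u => exists_local_lift U.hom u

end Groth.EtaleLift
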